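import Groth.Agent.Lib.DepthRes13.Main
import Groth.Agent.Lib.FLCTriv18.PGroup
import Groth.Agent.Lib.LocConst.Pull
import Groth.Agent.Lib.DerCat.RDMiddle
import Groth.Agent.Lib.BCDVcomp.EtaleD
import Groth.Agent.Lib.EtDer.AcyclicComp

/-!
# Etale depth of finite locally constant torsion sheaves
-/

set_option autoImplicit false
set_option backward.isDefEq.respectTransparency false
set_option backward.isDefEq.respectTransparency.types false
set_option linter.all false

universe u

open CategoryTheory CategoryTheory.Limits AlgebraicGeometry Opposite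

noncomputable section

namespace GrothLib.DepthRes13

variable {X U : Scheme.{u}}

/-- A sheaf vanishing on the members of an etale covering vanishes. -/
theorem isZero_of_pull_covers {ι : Type u} (V : ι → X.Etale) (hV : EtCoh.Covers V) (K : EtCoh.Ab X)
    (h : ∀ i, IsZero ((EtCoh.pull (V i).hom).obj K)) : IsZero K := by
  haveI : IsIso (0 : K ⟶ K) := GrothLib.BCDVcomp.isIso_of_pull_covers V hV _ fun i => by
    haveI : (EtCoh.pull (V i).hom).Additive := EtCore.pull_additive _
    rw [Functor.map_zero]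
    exact ⟨0, (h i).eq_of_src _ _, (h i).eq_of_src _ _⟩
  exact (IsZero.iff_id_eq_zero K).2 ((cancel_epi (0 : K ⟶ K)).1 (by simp))

variable (j : U ⟶ X) [IsOpenImmersion j]

theorem depth_of_iso {F G : EtCoh.Ab X} (e : F ≅ G) (n : ℕ) (h : EtDepth.DepthGE j F n) :
    EtDepth.DepthGE j G n :=
  fun p hp => (h p hp).of_iso ((EtDual.locCoh j p).mapIso e.symm)

theorem depth_of_shortExact (S : ShortComplex (EtCoh.Ab X)) (hS : S.ShortExact) (n : ℕ)
    (h₁ : EtDepth.DepthGE j S.X₁ n) (h₃ : EtDepth.DepthGE j S.X₃ n) : EtDepth.DepthGE j S.X₂ n := by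
  haveI := GrothLib.EtSupp19.preservesFiniteLimits_secSupp j
  intro p hp
  rcases p with _ | p
  · let e := (EtDual.secSupp j).rightDerivedZeroIsoSelf
    haveI := hS.mono_f
    have hex := hS.exact.map_of_mono_of_preservesKernel (EtDual.secSupp j) inferInstance inferInstance
    exact (hex.isZero_of_both_zeros (((h₁ 0 hp).of_iso (e.app _).symm).eq_of_src _ _)
      (((h₃ 0 hp).of_iso (e.app _).symm).eq_of_tgt _ _)).of_iso (e.app _)
  · exact GrothLib.HomGamma.isZero_rightDerived_X₂ (EtDual.secSupp j) p S hS (h₁ _ hp) (h₃ _ hp)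

theorem depth_of_isZero {F : EtCoh.Ab X} (hF : IsZero F) (n : ℕ) : EtDepth.DepthGE j F n := fun p _ => by
  haveI : (EtDual.locCoh j p).PreservesZeroMorphisms := inferInstanceAs ((EtDual.secSupp j).rightDerived p).PreservesZeroMorphisms
  exact (EtDual.locCoh j p).map_isZero hF

/-- Constant `ℓ`-group coefficients. -/
theorem depth_const_pGroup (ℓ : ℕ) [Fact ℓ.Prime] (n : ℕ) (h : EtDepth.DepthGE j (EtCoh.const X (ZMod ℓ)) n)
    (M : Type) [AddCommGroup M] [Finite M] (hM : ∀ m : M, ∃ j : ℕ, ℓ ^ j • m = 0) :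
    EtDepth.DepthGE j (EtCoh.const X M) n := by
  induction hc : Nat.card M using Nat.strong_induction_on generalizing M with
  | _ c ih =>
    subst hc
    rcases subsingleton_or_nontrivial M with hs | hn
    · refine depth_of_isZero j ?_ n
      haveI : Subsingleton (ULift.{u + 1} M) := inferInstance
      exact Functor.map_isZero (presheafToSheaf _ _)
        (Functor.map_isZero _ (AddCommGrpCat.isZero_of_subsingleton (AddCommGrpCat.of (ULift.{u + 1} M))))
    · obtain ⟨m, hm⟩ := exists_ne (0 : M)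
      obtain ⟨t, ht⟩ := hM m
      obtain ⟨x, hx⟩ : ∃ x : M, addOrderOf x = ℓ := by
        classical
        let j₀ := Nat.find (⟨t, ht⟩ : ∃ j, ℓ ^ j • m = 0)
        have h₀ : ℓ ^ j₀ • m = 0 := Nat.find_spec (⟨t, ht⟩ : ∃ j, ℓ ^ j • m = 0)
        have hj₀ : j₀ ≠ 0 := fun h => hm (by rwa [h, pow_zero, one_nsmul] at h₀)
        obtain ⟨i, hi⟩ := Nat.exists_eq_succ_of_ne_zero hj₀
        refine ⟨ℓ ^ i • m, addOrderOf_eq_prime ?_ ?_⟩
        · rw [← mul_nsmul', ← pow_succ']
          rwa [hi] at h₀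
        · exact Nat.find_min (⟨t, ht⟩ : ∃ j, ℓ ^ j • m = 0) (show i < j₀ by omega)
      have hpx : ℓ • x = 0 := hx ▸ addOrderOf_nsmul_eq_zero x
      let i : ZMod ℓ →+ M := ZMod.lift ℓ ⟨zmultiplesHom M x, by
        change (ℓ : ℤ) • x = 0
        rw [natCast_zsmul]; exact hpx⟩
      have hi : Function.Injective i := (ZMod.lift_injective _).2 fun z hz => by
        change z • x = 0 at hz
        rw [ZMod.intCast_zmod_eq_zero_iff_dvd]
        rw [← hx]
        exact addOrderOf_dvd_iff_zsmul_eq_zero.2 hz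
      let Q := M ⧸ i.range
      obtain ⟨S, hS, h₁, h₂, h₃⟩ := GrothLib.FLCTriv18.shortExact_const X i (QuotientAddGroup.mk' i.range) hi
        (QuotientAddGroup.mk'_surjective _) fun b => (QuotientAddGroup.eq_zero_iff b).trans Iff.rfl
      have hQ : EtDepth.DepthGE j (EtCoh.const X Q) n := by
        refine ih (Nat.card Q) ?_ Q (fun q => ?_) rfl
        · have hcard := AddSubgroup.card_eq_card_quotient_mul_card_addSubgroup i.range
          rw [hcard]
          have hr : Nat.card i.range = ℓ := by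
            rw [Nat.card_congr (AddMonoidHom.ofInjective hi).toEquiv.symm, Nat.card_zmod]
          rw [hr]
          exact lt_mul_of_one_lt_right Nat.card_pos (Fact.out : ℓ.Prime).one_lt
        · obtain ⟨b, rfl⟩ := QuotientAddGroup.mk'_surjective _ q
          obtain ⟨j, hj⟩ := hM b
          exact ⟨j, by rw [← map_nsmul, hj, map_zero]⟩
      rw [← h₂]
      exact depth_of_shortExact j S hS n (h₁ ▸ h) (h₃ ▸ hQ)

/-- Constant finite coefficients whose sheaf is `ℓ`-torsion. -/
theorem depth_const_torsion (ℓ : ℕ) [Fact ℓ.Prime] (n : ℕ) (h : EtDepth.DepthGE j (EtCoh.const X (ZMod ℓ)) n)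
    (M : Type) [AddCommGroup M] [Finite M] (ht : EtAcyc.IsLTorsion {ℓ} (EtCoh.const X M)) :
    EtDepth.DepthGE j (EtCoh.const X M) n := by
  have hℓ : ℓ.Prime := Fact.out
  let N := Nat.card M
  let a := N.factorization ℓ
  let b := N / ℓ ^ a
  have hN : ℓ ^ a * b = N := Nat.ordProj_mul_ordCompl_eq_self N ℓ
  have hN0 : N ≠ 0 := Nat.card_pos.ne'
  have hco : Nat.Coprime (ℓ ^ a) b := (Nat.coprime_ordCompl hℓ hN0).pow_left a
  let C := constantSheaf X.smallEtaleTopology AddCommGrpCat.{u + 1}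
  haveI : C.Additive :=
    haveI : (EtCore.gsec X).Additive := ⟨fun {_ _ _ _} => rfl⟩
    (EtCore.constAdj X).left_adjoint_additive
  let A := AddCommGrpCat.of (ULift.{u + 1} M)
  have hNA : N • 𝟙 A = 0 := by
    ext m
    exact card_nsmul_eq_zero'
  have hNC : N • 𝟙 (C.obj A) = 0 := by
    rw [← CategoryTheory.Functor.map_id, ← Functor.map_nsmul, hNA, Functor.map_zero]
  have haC : (ℓ ^ a) • 𝟙 (C.obj A) = 0 := by
    ext W : 3
    ext s
    change (ℓ ^ a) • (s : EtCoh.sect (C.obj A) W.unop) = 0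
    have hNs : N • (s : EtCoh.sect (C.obj A) W.unop) = 0 :=
      congr($(congrArg (fun f : C.obj A ⟶ C.obj A => f.hom.app W) hNC) s)
    let R : Sieve W.unop :=
      { arrows := fun V g => (C.obj A).obj.map g.op ((ℓ ^ a) • s) = 0
        downward_closed := by
          intro V V' g hg k
          rw [op_comp, Functor.map_comp, ConcreteCategory.comp_apply, hg, map_zero] }
    have hR : R ∈ X.smallEtaleTopology W.unop := by
      rw [GrothLib.EtSite.mem_topology_iff]
      intro x
      obtain ⟨V, g, m, ⟨v, hv⟩, ⟨hm0, hm⟩, hms⟩ := ht W.unop s x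
      refine ⟨V, g, v, ?_, hv⟩
      show (C.obj A).obj.map g.op ((ℓ ^ a) • s) = 0
      let y : EtCoh.sect (C.obj A) V := (C.obj A).obj.map g.op s
      have h1 : addOrderOf y ∣ m := addOrderOf_dvd_of_nsmul_eq_zero hms
      have h2 : addOrderOf y ∣ ℓ ^ a * b := by
        rw [hN]
        refine addOrderOf_dvd_of_nsmul_eq_zero ?_
        rw [← map_nsmul, hNs, map_zero]
      have h3 : addOrderOf y ∣ ℓ ^ a := by
        refine Nat.Coprime.dvd_of_dvd_mul_right (Nat.coprime_of_dvd fun q hq hqy hqb => ?_) h2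
        obtain rfl : q = ℓ := hm q hq (hqy.trans h1)
        exact Nat.not_dvd_ordCompl hℓ hN0 hqb
      rw [map_nsmul]
      exact addOrderOf_dvd_iff_nsmul_eq_zero.1 h3
    exact (((isSheaf_iff_isSheaf_of_type _ _).1
      ((sheafCompose X.smallEtaleTopology (forget AddCommGrpCat.{u + 1})).obj (C.obj A)).property) R hR).isSeparatedFor.ext
        fun V g hg => (show (C.obj A).obj.map g.op ((ℓ ^ a) • s) = 0 from hg).trans
          (map_zero ((C.obj A).obj.map g.op).hom).symm
  let K := (nsmulAddMonoidHom (ℓ ^ a) : M →+ M).ker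
  let c : ℤ := Nat.gcdB (ℓ ^ a) b * b
  have hbez : (1 : ℤ) = (ℓ ^ a : ℕ) * Nat.gcdA (ℓ ^ a) b + b * Nat.gcdB (ℓ ^ a) b := by
    rw [← Nat.gcd_eq_gcd_ab, hco]
    rfl
  have hK : ∀ m : M, c • m ∈ K := fun m => by
    show (ℓ ^ a) • (c • m) = 0
    rw [← natCast_zsmul, smul_smul, show ((ℓ ^ a : ℕ) : ℤ) * c = Nat.gcdB (ℓ ^ a) b * (N : ℤ) by
      rw [← hN]; push_cast; ring, mul_smul, natCast_zsmul, card_nsmul_eq_zero', smul_zero]
  let B := AddCommGrpCat.of (ULift.{u + 1} K)
  let π : A ⟶ B := AddCommGrpCat.ofHom (AddEquiv.ulift.symm.toAddMonoidHom.comp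
    ((((zsmulAddGroupHom c : M →+ M)).codRestrict K hK).comp AddEquiv.ulift.toAddMonoidHom))
  let ι : B ⟶ A := AddCommGrpCat.ofHom (AddEquiv.ulift.symm.toAddMonoidHom.comp
    (K.subtype.comp AddEquiv.ulift.toAddMonoidHom))
  have hc : π ≫ ι = c • 𝟙 A := by
    ext m
    rfl
  have hret : C.map π ≫ C.map ι = 𝟙 (C.obj A) := by
    rw [← Functor.map_comp, hc, Functor.map_zsmul, CategoryTheory.Functor.map_id]
    have : (1 : ℤ) • 𝟙 (C.obj A) = c • 𝟙 (C.obj A) := by
      rw [hbez, add_smul, mul_comm ((ℓ ^ a : ℕ) : ℤ), mul_smul, natCast_zsmul, haC, smul_zero, zero_add,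
        mul_comm (b : ℤ)]
    rw [← this, one_smul]
  haveI : Finite K := inferInstance
  have hB := depth_const_pGroup j ℓ n h K (fun m => ⟨a, Subtype.ext m.2⟩)
  intro p hp
  haveI : IsSplitMono (C.map π) := IsSplitMono.mk' ⟨C.map ι, hret⟩
  haveI : Mono ((EtDual.locCoh j p).map (C.map π)) := inferInstance
  exact (hB p hp).of_mono ((EtDual.locCoh j p).map (C.map π))

/-- Depth for finite locally constant torsion sheaves. -/
theorem depth_flc (ℓ : ℕ) [Fact ℓ.Prime] (n : ℕ) (h : EtDepth.DepthGE j (EtCoh.const X (ZMod ℓ)) n)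
    (F : EtCoh.Ab X) (hF : EtCoh.IsFiniteLocallyConstant F) (hT : EtAcyc.IsLTorsion {ℓ} F) :
    EtDepth.DepthGE j F n := by
  obtain ⟨ι, V, hV, hloc⟩ := hF
  intro p hp
  refine isZero_of_pull_covers V hV _ fun i => ?_
  obtain ⟨M, _, _, hM⟩ := hloc i
  obtain ⟨e⟩ := (GrothLib.LocConst.restr_iso_const_iff F (V i) _).1 hM
  let g : (V i).left ⟶ X := (V i).hom
  haveI : Etale g := (V i).prop
  let j' := pullback.snd j g
  obtain ⟨e'⟩ := GrothLib.EtSupp19.nonempty_pull_locCoh_iso j g j'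
    (Scheme.Pullback.range_snd (f := j) (g := g)) p F
  have h' : EtDepth.DepthGE j' (EtCoh.const (V i).left (ZMod ℓ)) n :=
    depth_of_iso j' (EtCore.pullConst g (ZMod ℓ)) n (depth_restrict j _ n h g)
  have ht : EtAcyc.IsLTorsion {ℓ} (EtCoh.const (V i).left M) := by
    have h1 := GrothLib.EtDer.isLTorsion_pull g {ℓ} hT
    intro W s x
    obtain ⟨V', q, m, hv, hm, hms⟩ := h1 W (e.inv.hom.app (op W) s) x
    refine ⟨V', q, m, hv, hm, ?_⟩
    have h2 := congrArg (e.hom.hom.app (op V')) hms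
    erw [map_zero, map_nsmul, NatTrans.naturality_apply] at h2
    have h3 : e.hom.hom.app (op W) (e.inv.hom.app (op W) s) = s :=
      congr($(congrArg (fun f : EtCoh.const (V i).left M ⟶ _ => f.hom.app (op W)) e.inv_hom_id) s)
    rwa [h3] at h2
  exact ((depth_of_iso j' e.symm n (depth_const_torsion j' ℓ n h' M ht)) p hp).of_iso e'

end GrothLib.DepthRes13
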